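import Groth.Agent.Lib.RHom.Support
import Groth.Agent.Lib.DPerf.Tilde
import Groth.Agent.Lib.Dlz27.CMLocus
import Groth.Agent.Lib.SMT.CMBasic
import Groth.Agent.Lib.RefHull26.DepthExt
import Groth.Agent.S0372
import Groth.Prelude.Def_DualSch

/-!
# The Cohen–Macaulay locus of a scheme with a dualizing complex
-/

set_option autoImplicit false
set_option linter.style.haveILetI false
set_option backward.isDefEq.respectTransparency false
set_option backward.isDefEq.respectTransparency.types false

universe u

open CategoryTheory CategoryTheory.Limits AlgebraicGeometry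

attribute [local instance] HasDerivedCategory.standard

noncomputable section

namespace Groth.Agent.DlzSchCM27

open Dlz27

variable {A : Type u} [CommRing A]

theorem subsingleton_localized_iff (S : Submonoid A) {M : Type u} [AddCommGroup M] [Module A M] :
    Subsingleton (LocalizedModule S M) ↔ ∀ m : M, ∃ s ∈ S, s • m = 0 := by
  rw [LocalizedModule.subsingleton_iff]

theorem vanS_self_iff (W : DRing.Cx A) (S : Submonoid A) (i : ℤ) :
    VanS W S A i ↔ ∀ z : W.homology i, ∃ s ∈ S, s • z = 0 := by
  have hp : (ComplexShape.up ℤ).prev i = i - 1 := by simp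
  have hn : (ComplexShape.up ℤ).next i = i + 1 := by simp
  constructor
  · intro h z
    obtain ⟨c, rfl⟩ := DMod.homologyπ_surjective W i z
    obtain ⟨s, g, hg⟩ := h (LinearMap.toSpanSingleton A (W.X i) (W.iCycles i c)) (LinearMap.ext_ring (by
      show W.d i (i + 1) ((1 : A) • W.iCycles i c) = 0
      rw [one_smul, DMod.d_iCycles]))
    refine ⟨s, s.2, ?_⟩
    rw [← map_smul, DMod.homologyπ_eq_zero_iff hp]
    refine ⟨g 1, ?_⟩
    rw [map_smul]
    simpa using LinearMap.congr_fun hg 1
  · intro h f hf
    obtain ⟨c, hc⟩ := DMod.exists_cycle hn (f 1) (LinearMap.congr_fun hf 1)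
    obtain ⟨s, hs, hs'⟩ := h (W.homologyπ i c)
    rw [← map_smul, DMod.homologyπ_eq_zero_iff hp] at hs'
    obtain ⟨y, hy⟩ := hs'
    refine ⟨⟨s, hs⟩, LinearMap.toSpanSingleton A _ y, LinearMap.ext_ring ?_⟩
    show W.d (i - 1) i ((1 : A) • y) = s • f 1
    rw [one_smul, hy, map_smul, hc]

theorem nontrivial_hd_iff {ω : Dual.D A} (M : Model ω) (p : PrimeSpectrum A) (i : ℤ) :
    Nontrivial (LocalizedModule p.asIdeal.primeCompl (Dual.HD A ω i)) ↔ ¬ VanS M.W p.asIdeal.primeCompl A i := by
  rw [← not_subsingleton_iff_nontrivial, subsingleton_localized_iff, vanS_self_iff]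
  let e : M.W.homology i ≃ₗ[A] Dual.HD A ω i :=
    ((DerivedCategory.homologyFunctorFactors (ModuleCat.{u} A) i).app M.W).toLinearEquiv.symm ≪≫ₗ
      ((DerivedCategory.homologyFunctor (ModuleCat.{u} A) i).mapIso M.e).toLinearEquiv
  refine not_congr ⟨fun h z => ?_, fun h m => ?_⟩
  · obtain ⟨s, hs, h'⟩ := h (e z)
    exact ⟨s, hs, e.injective (by rw [map_smul, h', map_zero])⟩
  · obtain ⟨s, hs, h'⟩ := h (e.symm m)
    exact ⟨s, hs, e.symm.injective (by rw [map_smul, h', map_zero])⟩

theorem existsUnique_iff_single {ω : Dual.D A} [IsNoetherianRing A] (hω : Dual.IsDualizing A ω) (M : Model ω)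
    (p : PrimeSpectrum A) :
    (∃! i : ℤ, Nontrivial (LocalizedModule p.asIdeal.primeCompl (Dual.HD A ω i))) ↔ Single M A p := by
  simp only [nontrivial_hd_iff M p]
  constructor
  · exact fun ⟨n, _, hn⟩ i j hi hj => (hn i hi).trans (hn j hj).symm
  · intro h
    obtain ⟨n, hn⟩ := DepthLib.exists_depth_eq_natCast (R := Localization.AtPrime p.asIdeal)
      (M := LocalizedModule p.asIdeal.primeCompl A)
    have hne := (vanS_of_depth hω M p n A hn).2
    exact ⟨_, hne, fun j hj => h j _ hj hne⟩

theorem isCM_iff_module [IsNoetherianRing A] (p : PrimeSpectrum A) :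
    LocCoh.IsCohenMacaulayLocalRing (Localization.AtPrime p.asIdeal) ↔
      (Subsingleton (LocalizedModule p.asIdeal.primeCompl A) ∨ LocCoh.IsCohenMacaulayModule
        (Localization.AtPrime p.asIdeal) (LocalizedModule p.asIdeal.primeCompl A)) := by
  have hnt : Nontrivial (LocalizedModule p.asIdeal.primeCompl A) := by
    show p ∈ Module.support A A
    rw [Module.support_eq_zeroLocus, PrimeSpectrum.mem_zeroLocus]; exact fun a ha => by
      simp [show a = 0 by simpa using Module.mem_annihilator.1 ha 1]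
  have e : LocalizedModule p.asIdeal.primeCompl A ≃ₗ[Localization.AtPrime p.asIdeal]
      Localization.AtPrime p.asIdeal := (IsLocalizedModule.iso p.asIdeal.primeCompl
    (Algebra.linearMap A (Localization.AtPrime p.asIdeal))).extendScalarsOfIsLocalization p.asIdeal.primeCompl
      (Localization.AtPrime p.asIdeal)
  simp only [not_subsingleton_iff_nontrivial.2 hnt, false_or, LocCoh.IsCohenMacaulayModule,
    DepthLib.depth_localizedModule_self, Module.supportDim_eq_of_equiv e]
  have : IsNoetherianRing (Localization.AtPrime p.asIdeal) :=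
    IsLocalization.isNoetherianRing p.asIdeal.primeCompl _ inferInstance
  exact ⟨fun h => h.supportDim_eq_depth, fun h => { supportDim_eq_depth := h }⟩

theorem isCM_iff_existsUnique [IsNoetherianRing A] {ω : Dual.D A} (hω : Dual.IsDualizing A ω)
    (p : PrimeSpectrum A) :
    LocCoh.IsCohenMacaulayLocalRing (Localization.AtPrime p.asIdeal) ↔
      ∃! i : ℤ, Nontrivial (LocalizedModule p.asIdeal.primeCompl (Dual.HD A ω i)) :=
  (isCM_iff_module p).trans ((single_iff hω (model hω) p A).trans (existsUnique_iff_single hω (model hω) p).symm)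

variable {X : Scheme.{u}}

theorem exists_stalk_ringEquiv (j : Spec (CommRingCat.of A) ⟶ X) [IsOpenImmersion j]
    (p : Spec (CommRingCat.of A)) :
    Nonempty (X.presheaf.stalk (j p) ≃+* Localization.AtPrime (p : PrimeSpectrum A).asIdeal) := by
  let p' : PrimeSpectrum A := p
  let R := CommRingCat.of A
  let S := ((Spec R).presheaf.stalk p : Type u)
  letI : Algebra A S := (StructureSheaf.toStalk A p').hom.toAlgebra
  haveI : IsLocalization.AtPrime S p'.asIdeal := by
    exact (inferInstance : IsLocalization.AtPrime ((Spec.structureSheaf A).presheaf.stalk p') p'.asIdeal)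
  exact ⟨(asIso (j.stalkMap p)).commRingCatIsoToRingEquiv.trans
    (IsLocalization.algEquiv p'.asIdeal.primeCompl S (Localization.AtPrime p'.asIdeal)).toRingEquiv⟩

/-- The stalks of `tilde N` are the localizations of `N`. -/
def tildeStalkEquiv {R : CommRingCat.{u}} (N : ModuleCat.{u} R) (p : Spec R) :
    (tilde N).presheaf.stalk p ≃ LocalizedModule (p : PrimeSpectrum R).asIdeal.primeCompl N :=
  let p' : PrimeSpectrum R := p
  haveI : IsLocalizedModule p'.asIdeal.primeCompl (tilde.toStalk N p').hom :=
    inferInstanceAs (IsLocalizedModule p'.asIdeal.primeCompl (StructureSheaf.toStalkₗ ..))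
  (IsLocalizedModule.iso p'.asIdeal.primeCompl (tilde.toStalk N p').hom).symm.toEquiv

theorem nontrivial_stalk_iff_aux {R : CommRingCat.{u}}
    [∀ (U : Scheme.{u}) (j : U ⟶ X) [IsOpenImmersion j], PreservesFiniteLimits (Scheme.Modules.restrictFunctor j)]
    (K : DCoh.D X) (j : Spec R ⟶ X) [IsOpenImmersion j] (ω : Dual.D R)
    (e : (DCoh.restrictD j).obj K ≅ (DPerf.tildeDD R).obj ω) (p : Spec R) (i : ℤ) :
    Nontrivial ((DCoh.HD K i).presheaf.stalk (j p)) ↔
      Nontrivial (LocalizedModule (p : PrimeSpectrum R).asIdeal.primeCompl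
        ((DerivedCategory.homologyFunctor (ModuleCat.{u} R) i).obj ω)) := by
  let a : (Scheme.Modules.restrictFunctor j).obj (DCoh.HD K i) ≅
      (tilde.functor R).obj ((DerivedCategory.homologyFunctor (ModuleCat.{u} R) i).obj ω) :=
    (RHom.hdMapIso (Scheme.Modules.restrictFunctor j) K i).symm ≪≫
      (DerivedCategory.homologyFunctor _ i).mapIso e ≪≫ DPerf.hdTildeIso ω i
  let b₁ := ((Scheme.Modules.restrictStalkNatIso j p).app (DCoh.HD K i)).addCommGroupIsoToAddEquiv
  let b₂ := ((M1.stalkAb p).mapIso a).addCommGroupIsoToAddEquiv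
  exact ((b₁.symm.trans b₂).toEquiv.trans (tildeStalkEquiv _ p)).nontrivial_congr

theorem nontrivial_stalk_iff
    [∀ (U : Scheme.{u}) (j : U ⟶ X) [IsOpenImmersion j], PreservesFiniteLimits (Scheme.Modules.restrictFunctor j)]
    [PreservesFiniteLimits (tilde.functor (CommRingCat.of A))]
    (K : DCoh.D X) (j : Spec (CommRingCat.of A) ⟶ X) [IsOpenImmersion j] (ω : Dual.D A)
    (e : (DCoh.restrictD j).obj K ≅ (DCoh.tildeD (CommRingCat.of A)).obj ω) (p : Spec (CommRingCat.of A)) (i : ℤ) :
    Nontrivial ((DCoh.HD K i).presheaf.stalk (j p)) ↔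
      Nontrivial (LocalizedModule (p : PrimeSpectrum A).asIdeal.primeCompl (Dual.HD A ω i)) :=
  nontrivial_stalk_iff_aux (R := CommRingCat.of A) K j ω e p i

end Groth.Agent.DlzSchCM27
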